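import Mathlib
import Groth.Agent.FlatCx.Homology

/-!
Homology of complexes of modules commutes with filtered colimits.
-/

set_option autoImplicit false

universe u

open CategoryTheory CategoryTheory.Limits HomologicalComplex

namespace Groth.Agent.HomolFiltered

variable {A : Type u} [Ring A] {ι : Type*} {c : ComplexShape ι}

/-- The homology functor preserves filtered colimits. -/
theorem preservesColimitsOfShape_homologyFunctor (J : Type u) [SmallCategory J] [IsFiltered J] (j : ι) :
    PreservesColimitsOfShape J (homologyFunctor (ModuleCat.{u} A) c j) := by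
  refine ⟨fun {K} => ⟨fun {t} ht => ?_⟩⟩
  have hev : ∀ m, IsColimit ((CategoryTheory.forget (ModuleCat.{u} A)).mapCocone ((eval (ModuleCat.{u} A) c m).mapCocone t)) :=
    fun m => isColimitOfPreserves (CategoryTheory.forget _) (isColimitOfPreserves (eval (ModuleCat.{u} A) c m) ht)
  have hlift : ∀ m (z : t.pt.X m), ∃ (a : J) (x : (K.obj a).X m), (t.ι.app a).f m x = z := fun m z => by
    obtain ⟨a, x, hx⟩ := Types.jointly_surjective_of_isColimit (hev m) z
    exact ⟨a, x, hx⟩
  have hzero : ∀ m (a : J) (x : (K.obj a).X m), (t.ι.app a).f m x = 0 →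
      ∃ (b : J) (f : a ⟶ b), (K.map f).f m x = 0 := fun m a x hx => by
    obtain ⟨b, f, g, h⟩ := (Types.FilteredColimit.isColimit_eq_iff _ (hev m) (i := a) (j := a)
      (xi := x) (xj := (0 : (K.obj a).X m))).mp (by
        show (t.ι.app a).f m x = (t.ι.app a).f m 0
        rw [hx, map_zero])
    have h' : (K.map f).f m x = (K.map g).f m 0 := h
    exact ⟨b, f, h'.trans (map_zero _)⟩
  have hnat : ∀ {a b : J} (f : a ⟶ b) m (x : (K.obj a).X m),
      (t.ι.app b).f m ((K.map f).f m x) = (t.ι.app a).f m x := fun f m x => by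
    conv_rhs => rw [← t.w f]
    rfl
  constructor
  refine isColimitOfReflects (CategoryTheory.forget (ModuleCat.{u} A)) ?_
  refine Types.FilteredColimit.isColimitOf' _ _ (fun x => ?_) (fun a x y hxy => ?_)
  · obtain ⟨z, rfl⟩ := FlatCx.homologyπ_surjective t.pt x
    obtain ⟨a, w, hw⟩ := hlift j (t.pt.iCycles j z)
    obtain ⟨b, f, hb⟩ := hzero (c.next j) a ((K.obj a).d j (c.next j) w) (by
      have h := congr($((t.ι.app a).comm j (c.next j)) w)
      refine h.symm.trans ?_
      show t.pt.d j (c.next j) ((t.ι.app a).f j w) = 0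
      rw [hw]
      exact FlatCx.d_iCycles _ z)
    obtain ⟨y, hy⟩ := FlatCx.exists_cycles (K.obj b) rfl ((K.map f).f j w) (by
      have h := congr($((K.map f).comm j (c.next j)) w)
      exact h.trans hb)
    refine ⟨b, (K.obj b).homologyπ j y, ?_⟩
    show t.pt.homologyπ j z = homologyMap (t.ι.app b) j ((K.obj b).homologyπ j y)
    rw [FlatCx.homologyMap_homologyπ]
    congr 1
    refine (FlatCx.iCycles_injective t.pt ?_).symm
    rw [FlatCx.iCycles_cyclesMap, hy, hnat, hw]
  · change (K.obj a).homology j at x y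
    let φ : K.obj a ⟶ t.pt := t.ι.app a
    obtain ⟨z, hz⟩ := FlatCx.homologyπ_surjective (K.obj a) (x - y)
    have h0 : homologyMap φ j ((K.obj a).homologyπ j z) = 0 := by
      rw [hz, map_sub, sub_eq_zero]
      exact hxy
    rw [FlatCx.homologyMap_homologyπ, FlatCx.homologyπ_eq_zero_iff t.pt rfl,
      FlatCx.iCycles_cyclesMap] at h0
    obtain ⟨v, hv⟩ := h0
    obtain ⟨a', w, hw⟩ := hlift (c.prev j) v
    let b := IsFiltered.max a a'
    let f : a ⟶ b := IsFiltered.leftToMax a a'
    let f' : a' ⟶ b := IsFiltered.rightToMax a a'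
    obtain ⟨e, g, hg⟩ := hzero j b ((K.map f).f j ((K.obj a).iCycles j z) -
        (K.obj b).d (c.prev j) j ((K.map f').f (c.prev j) w)) (by
      rw [map_sub, hnat, sub_eq_zero]
      have h := congr($((t.ι.app b).comm (c.prev j) j) ((K.map f').f (c.prev j) w))
      refine Eq.trans ?_ h
      show _ = t.pt.d (c.prev j) j ((t.ι.app b).f (c.prev j) ((K.map f').f (c.prev j) w))
      rw [hnat, hw]
      exact hv.symm)
    refine ⟨e, f ≫ g, ?_⟩
    show homologyMap (K.map (f ≫ g)) j x = homologyMap (K.map (f ≫ g)) j y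
    rw [← sub_eq_zero, ← map_sub, ← hz, FlatCx.homologyMap_homologyπ,
      FlatCx.homologyπ_eq_zero_iff (K.obj e) rfl, FlatCx.iCycles_cyclesMap]
    refine ⟨(K.map g).f (c.prev j) ((K.map f').f (c.prev j) w), ?_⟩
    rw [K.map_comp]
    show (K.obj e).d (c.prev j) j ((K.map g).f (c.prev j) _) = (K.map g).f j ((K.map f).f j _)
    rw [map_sub, sub_eq_zero] at hg
    rw [hg]
    exact congr($((K.map g).comm (c.prev j) j) ((K.map f').f (c.prev j) w))

end Groth.Agent.HomolFiltered
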